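import Groth.Agent.DR39.OmegaBC
import Mathlib.LinearAlgebra.Dual.BaseChange
import Mathlib.RingTheory.LocalRing.Module
import Mathlib.RingTheory.PicardGroup
import Mathlib.RingTheory.Support
import Mathlib.Algebra.Module.FinitePresentation
import Mathlib.RingTheory.Flat.FaithfullyFlat.Algebra

/-!
Base change of differents without flatness.
-/

set_option autoImplicit false
set_option linter.style.haveILetI false

open TensorProduct

namespace Groth.Agent.DiffBC24

universe u

section Omega

variable {A B A' B' : Type u} [CommRing A] [CommRing B] [CommRing A'] [CommRing B']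
  [Algebra A B] [Algebra A A'] [Algebra B B'] [Algebra A' B'] [Algebra A B']
  [IsScalarTower A A' B'] [IsScalarTower A B B']

noncomputable local instance : Module B (Disc.Omega A' B') :=
  Module.compHom _ (algebraMap B B')

local instance : IsScalarTower B B' (Disc.Omega A' B') :=
  IsScalarTower.of_algebraMap_smul fun _ _ => rfl

/-- Forms of a finite free algebra commute with any base change. -/
theorem liftBC_bijective_of_free (h : Algebra.IsPushout A A' B B') [Module.Finite A B] [Module.Free A B] :
    Function.Bijective (DR39.OmegaBC.liftBC h) := by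
  letI modA : Module A (Disc.Omega A B) := Module.compHom _ (algebraMap A B)
  haveI : IsScalarTower A B (Disc.Omega A B) :=
    IsScalarTower.of_algebraMap_smul fun _ _ => rfl
  letI modA₁ : Module A' (Disc.Omega A' B') := Module.compHom _ (algebraMap A' B')
  have hd : IsBaseChange A' h.out.toDual := h.out.dual
  let e₁ : (Disc.Omega A B) ≃ₗ[A] (B →ₗ[A] A) :=
    { toFun := Disc.Omega.toLinearMap
      invFun := Disc.Omega.mk
      left_inv := fun _ => rfl
      right_inv := fun _ => rfl
      map_add' := fun _ _ => rfl
      map_smul' := fun a φ => by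
        ext x
        show φ.toLinearMap (algebraMap A B a * x) = a • φ.toLinearMap x
        rw [← Algebra.smul_def, map_smul] }
  let e₂ : (B' →ₗ[A'] A') ≃ₗ[A'] Disc.Omega A' B' :=
    { toFun := Disc.Omega.mk
      invFun := Disc.Omega.toLinearMap
      left_inv := fun _ => rfl
      right_inv := fun _ => rfl
      map_add' := fun _ _ => rfl
      map_smul' := fun a φ => by
        ext x
        show a • φ x = φ (algebraMap A' B' a * x)
        rw [← Algebra.smul_def, map_smul] }
  let Θ := LinearEquiv.baseChange A A' _ _ e₁ ≪≫ₗ hd.equiv ≪≫ₗ e₂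
  have key : ∀ y, DR39.OmegaBC.liftBC h ((Algebra.IsPushout.cancelBaseChange A A' B B' (Disc.Omega A B)).symm y) = Θ y := by
    intro y
    induction y with
    | zero => simp
    | tmul a φ =>
      rw [Algebra.IsPushout.cancelBaseChange_symm_tmul, DR39.OmegaBC.liftBC_tmul]
      simp only [Θ, LinearEquiv.trans_apply, LinearEquiv.baseChange_tmul, IsBaseChange.equiv_tmul,
        map_smul]
      rfl
    | add x y hx hy => simp only [map_add, hx, hy]
  have : (DR39.OmegaBC.liftBC h : _ → _) =
      Θ ∘ (Algebra.IsPushout.cancelBaseChange A A' B B' (Disc.Omega A B)) := by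
    funext x
    rw [Function.comp_apply, ← key, LinearEquiv.symm_apply_apply]
  rw [this]
  exact Θ.bijective.comp (LinearEquiv.bijective _)

theorem finite_omega [Module.Finite A B] [Module.Free A B] : Module.Finite B (Disc.Omega A B) := by
  letI modA : Module A (Disc.Omega A B) := Module.compHom _ (algebraMap A B)
  haveI : IsScalarTower A B (Disc.Omega A B) :=
    IsScalarTower.of_algebraMap_smul fun _ _ => rfl
  let e₁ : (Disc.Omega A B) ≃ₗ[A] (B →ₗ[A] A) :=
    { toFun := Disc.Omega.toLinearMap
      invFun := Disc.Omega.mk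
      left_inv := fun _ => rfl
      right_inv := fun _ => rfl
      map_add' := fun _ _ => rfl
      map_smul' := fun a φ => by
        ext x
        show φ.toLinearMap (algebraMap A B a * x) = a • φ.toLinearMap x
        rw [← Algebra.smul_def, map_smul] }
  haveI : Module.Finite A (Disc.Omega A B) := Module.Finite.equiv e₁.symm
  exact Module.Finite.of_restrictScalars_finite A B (Disc.Omega A B)

theorem liftBC_trace (hB : Algebra.IsPushout A A' B B') [Module.Finite A B] [Module.Free A B]
    [Module.Finite A' B'] [Module.Free A' B'] :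
    DR39.OmegaBC.liftBC hB (1 ⊗ₜ Disc.Omega.trace A B) = Disc.Omega.trace A' B' := by
  rw [DR39.OmegaBC.liftBC_tmul, one_smul]
  apply Disc.Omega.ext
  show hB.out.toDual (Algebra.trace A B) = Algebra.trace A' B'
  apply hB.out.algHom_ext
  intro b
  rw [hB.out.toDual_comp_apply]
  change algebraMap A A' _ = Algebra.trace A' B' (algebraMap B B' b)
  rw [Algebra.trace_apply, Algebra.trace_apply, ← LinearMap.trace_baseChange]
  rw [← LinearMap.trace_conj' _ hB.out.equiv]
  congr 1
  apply hB.out.algHom_ext
  intro y
  show hB.out.equiv (LinearMap.baseChange A' (LinearMap.mul A B b)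
    (hB.out.equiv.symm ((IsScalarTower.toAlgHom A B B').toLinearMap y))) =
    algebraMap B B' b * algebraMap B B' y
  rw [IsBaseChange.equiv_symm_apply, LinearMap.baseChange_tmul, IsBaseChange.equiv_tmul, one_smul]
  simp

end Omega

section Colon

variable {R S : Type u} [CommRing R] [CommRing S] [Algebra R S]
  {M : Type u} [AddCommGroup M] [Module R M] {N : Type u} [AddCommGroup N] [Module S N]

theorem map_different_le (τ : M) (θ : S ⊗[R] M ≃ₗ[S] N) :
    Ideal.map (algebraMap R S) (QFDual.different R τ) ≤ QFDual.different S (θ (1 ⊗ₜ τ)) := by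
  rw [Ideal.map_le_iff_le_comap]
  intro r hr
  rw [Ideal.mem_comap, QFDual.mem_different_iff]
  rw [QFDual.mem_different_iff] at hr
  intro n
  obtain ⟨z, rfl⟩ := θ.surjective n
  induction z with
  | zero => exact ⟨0, by simp⟩
  | tmul s m =>
    obtain ⟨c, hc⟩ := hr m
    refine ⟨s * algebraMap R S c, ?_⟩
    rw [← map_smul, ← map_smul]
    congr 1
    rw [algebraMap_smul, TensorProduct.smul_tmul', smul_eq_mul, mul_one, ← tmul_smul, ← hc,
      ← TensorProduct.smul_tmul, Algebra.smul_def, mul_comm]
  | add x y hx hy =>
    obtain ⟨c, hc⟩ := hx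
    obtain ⟨d, hd⟩ := hy
    exact ⟨c + d, by rw [add_smul, hc, hd, map_add, smul_add]⟩

theorem different_eq_annihilator (τ : M) : QFDual.different R τ = Module.annihilator R (M ⧸ (R ∙ τ)) := by
  ext r
  rw [QFDual.mem_different_iff, Module.mem_annihilator]
  refine ⟨fun h q => ?_, fun h m => ?_⟩
  · obtain ⟨m, rfl⟩ := Submodule.Quotient.mk_surjective _ q
    rw [← Submodule.Quotient.mk_smul, Submodule.Quotient.mk_eq_zero, Submodule.mem_span_singleton]
    exact h m
  · have := h (Submodule.Quotient.mk m)
    rwa [← Submodule.Quotient.mk_smul, Submodule.Quotient.mk_eq_zero, Submodule.mem_span_singleton] at this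

theorem different_le_radical [Module.Finite R M] (τ : M) (θ : S ⊗[R] M ≃ₗ[S] N) :
    QFDual.different S (θ (1 ⊗ₜ τ)) ≤ (Ideal.map (algebraMap R S) (QFDual.different R τ)).radical := by
  rw [Ideal.radical_eq_sInf]
  refine le_sInf fun P ⟨hle, hP⟩ s hs => ?_
  by_contra hsP
  let p := P.comap (algebraMap R S)
  haveI : p.IsPrime := Ideal.IsPrime.comap _
  let Q := M ⧸ (R ∙ τ)
  have hmem : (⟨p, inferInstance⟩ : PrimeSpectrum R) ∈ Module.support R Q := by
    rw [Module.support_eq_zeroLocus, PrimeSpectrum.mem_zeroLocus, SetLike.coe_subset_coe, ← different_eq_annihilator]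
    exact Ideal.map_le_iff_le_comap.1 hle
  have hnt : Nontrivial (p.ResidueField ⊗[R] Q) :=
    (Module.mem_support_iff_nontrivial_residueField_tensorProduct ⟨p, inferInstance⟩).1 hmem
  -- the module at the residue field of `P`
  letI : Algebra p.ResidueField P.ResidueField :=
    (Ideal.ResidueField.map p P (algebraMap R S) rfl).toAlgebra
  haveI : IsScalarTower R p.ResidueField P.ResidueField := IsScalarTower.of_algebraMap_eq fun x => by
    rw [RingHom.algebraMap_toAlgebra, Ideal.ResidueField.map_algebraMap,
      ← IsScalarTower.algebraMap_apply]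
  have hnt' : Nontrivial (P.ResidueField ⊗[p.ResidueField] (p.ResidueField ⊗[R] Q)) := inferInstance
  let e := TensorProduct.AlgebraTensorModule.cancelBaseChange R p.ResidueField P.ResidueField P.ResidueField Q
  have hnt'' : Nontrivial (P.ResidueField ⊗[R] Q) := e.symm.toEquiv.nontrivial
  have hzero : ∀ x : Q, (s • (1 : S)) ⊗ₜ[R] x = (0 : S ⊗[R] Q) := by
    intro x
    obtain ⟨m, rfl⟩ := Submodule.Quotient.mk_surjective _ x
    obtain ⟨c, hc⟩ := (QFDual.mem_different_iff _ _ _).1 hs (θ (1 ⊗ₜ m))
    rw [← map_smul, ← map_smul, θ.injective.eq_iff] at hc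
    have := congrArg ((Submodule.mkQ (R ∙ τ)).lTensor S) hc.symm
    simpa [TensorProduct.smul_tmul', Q, (Submodule.Quotient.mk_eq_zero _).mpr
        (Submodule.mem_span_singleton_self τ)] using this
  obtain ⟨z, hz⟩ := exists_ne (0 : P.ResidueField ⊗[R] Q)
  refine hz ?_
  induction z with
  | zero => rfl
  | tmul a x =>
    have h := congrArg ((IsScalarTower.toAlgHom R S P.ResidueField).toLinearMap.rTensor Q) (hzero x)
    rw [LinearMap.rTensor_tmul, map_zero] at h
    simp only [smul_eq_mul, mul_one] at h
    have hu : algebraMap S P.ResidueField s ≠ 0 := fun h0 => hsP (Ideal.algebraMap_residueField_eq_zero.1 h0)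
    have := congrArg (fun w : P.ResidueField ⊗[R] Q => (a * (algebraMap S P.ResidueField s)⁻¹) • w) h
    simpa [TensorProduct.smul_tmul', mul_assoc, inv_mul_cancel₀ hu] using this
  | add x y hx hy =>
    by_contra hxy
    by_cases hx0 : x = 0
    · exact hy (by simpa [hx0] using hxy) |> fun h => hxy (by simp [hx0, h])
    · exact hx0 (hx hx0)

theorem different_le_map [Module.Invertible R M] (τ : M) (θ : S ⊗[R] M ≃ₗ[S] N) :
    QFDual.different S (θ (1 ⊗ₜ τ)) ≤ Ideal.map (algebraMap R S) (QFDual.different R τ) := by
  classical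
  -- the values of linear forms at `τ` lie in the different
  have hval : ∀ φ : Module.Dual R M, φ τ ∈ QFDual.different R τ := fun φ => by
    rw [QFDual.mem_different_iff]
    refine fun m => ⟨φ m, ?_⟩
    have h : τ ⊗ₜ[R] m = m ⊗ₜ[R] τ :=
      LinearMap.congr_fun (congrArg LinearEquiv.toLinearMap (Module.Invertible.tensorProductComm_eq_refl (R := R) (M := M))) (m ⊗ₜ τ)
    simpa using congrArg (TensorProduct.lift (LinearMap.lsmul R M ∘ₗ φ)) h.symm
  obtain ⟨z, hz⟩ := (Module.Invertible.bijective (R := R) (M := M)).2 1
  intro s hs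
  rw [QFDual.mem_different_iff] at hs
  have hcontr : ∀ w : Module.Dual R M ⊗[R] M,
      algebraMap R S (contractLeft R M w) * s ∈ Ideal.map (algebraMap R S) (QFDual.different R τ) := by
    intro w
    induction w with
    | zero => simp
    | tmul φ m =>
      obtain ⟨c, hc⟩ := hs (θ (1 ⊗ₜ m))
      rw [← map_smul, ← map_smul, θ.injective.eq_iff] at hc
      have := congrArg ((TensorProduct.AlgebraTensorModule.rid R S S).toLinearMap.comp (LinearMap.baseChange S φ)) hc.symm
      simp only [LinearMap.comp_apply, map_smul, LinearMap.baseChange_tmul, LinearEquiv.coe_coe,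
        TensorProduct.AlgebraTensorModule.rid_tmul, Algebra.smul_def, mul_one, smul_eq_mul] at this
      rw [contractLeft_apply, mul_comm]
      simp only [Algebra.algebraMap_self, RingHom.id_apply] at this
      rw [this]
      exact Ideal.mul_mem_left _ c (Ideal.mem_map_of_mem _ (hval φ))
    | add x y hx hy => simpa [add_mul] using Ideal.add_mem _ hx hy
  simpa [hz] using hcontr z

end Colon

end Groth.Agent.DiffBC24
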